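import Cfsg.Agent.Lib.FT.PF14.Reduce
import Cfsg.Agent.Lib.FT.Route.FieldData
import Cfsg.Agent.Lib.FT.Route.PairII

/-!
Steps B and C: everything but the element `y` of Step C is proved.
-/

set_option autoImplicit false

universe u

open Cfsg Subgroup

namespace CfsgLib.FT.PF14

/-- Step C: some conjugate of `W₂` under `T_F` normalizes `U`. -/
def StepC : Prop :=
  ∀ {G : Type u} [Group G] [Finite G] (_ : IsMinSimpleOddOrder G)
    (S T W₁ W₂ U V : Subgroup G) (_ : IsCoatom S) (_ : IsCoatom T)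
    (_ : IsTypePWith S W₁ U W₂) (_ : IsTypePWith T W₂ V W₁) (_ : S ⊓ T = W₁ ⊔ W₂)
    (_ : IsOfTypeII S) (_ : IsOfTypeII T) (_ : Nat.card W₁ < Nat.card W₂),
    ∃ y ∈ fittingHallOf T, W₂.map (MulAut.conj y).toMonoidHom ≤ normalizer (U : Set G)

theorem stepBC_of_stepC (hC : StepC.{u}) : StepBC.{u} := by
  intro G _ _ hG S T W₁ W₂ U V hS hT hSP hTP hST hSII hTII hlt
  obtain ⟨F, E⟩ := Route.facts_pair_typeII hG hS hT hSP hTP hSII hTII
  obtain ⟨hcyc, hcard, hfpf, hcop⟩ := Route.field_data F E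
  refine ⟨⟨⟨⟨fun a b => Subtype.ext (F.comm_H a a.2 b b.2)⟩⟩, F.exp_H⟩, F.card_H, hcyc, hcard, hfpf,
    hcop, ⟨⟨fun a b => Subtype.ext (E.comm_H a a.2 b b.2)⟩⟩,
    hC hG S T W₁ W₂ U V hS hT hSP hTP hST hSII hTII hlt⟩

/-- The odd order theorem from Steps A and C alone. -/
theorem oddOrderThm_of_AC (hA : StepA.{u}) (hC : StepC.{u}) : OddOrderThm.{u} :=
  oddOrderThm_of_AB hA (stepBC_of_stepC hC)

end CfsgLib.FT.PF14
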