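import Mathlib
import Cfsg.Prelude.Def_Transfer
import Cfsg.Agent.Lib.AppendixC.Pairs

/-!
Péterfalvi section 14: a fixed-point-free cyclic group of order `(p^q - 1)/(p - 1)` on an elementary
abelian group of order `p^q` is a group of scalars of the field with `p^q` elements.
-/

set_option autoImplicit false

namespace CfsgLib.FT.PF14

open Polynomial Subgroup

universe u

variable {G : Type u} [Group G] [Finite G] {p q : ℕ}

theorem card_eq_of_invariant [Fact p.Prime] (hq : 2 ≤ q) {W : ℕ} (j : ℕ) (hj : W = p ^ j)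
    (hle : j ≤ q) {n : ℕ} (hn : n * (p - 1) = p ^ q - 1) (hnW : n ≤ W - 1) (_hW : 1 < W) :
    W = p ^ q := by
  have hp := (Fact.out : p.Prime).two_le
  rcases hle.eq_or_lt with rfl | hlt
  · exact hj
  exfalso
  have h1 : p ^ j ≤ p ^ (q - 1) := Nat.pow_le_pow_right (by omega) (by omega)
  obtain ⟨a, rfl⟩ : ∃ a, p = a + 2 := ⟨p - 2, by omega⟩
  obtain ⟨c, rfl⟩ : ∃ c, q = c + 2 := ⟨q - 2, by omega⟩
  rw [show c + 2 - 1 = c + 1 by omega] at h1
  rw [pow_succ, show a + 2 - 1 = a + 1 by omega] at hn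
  have h2 : n + 1 ≤ (a + 2) ^ (c + 1) := by omega
  have h3 := Nat.mul_le_mul_right (a + 1) h2
  obtain ⟨Z, hZ⟩ : ∃ Z, (a + 2) ^ (c + 1) = Z + 1 :=
    ⟨(a + 2) ^ (c + 1) - 1, by omega⟩
  rw [hZ] at hn h2 h3
  have h4 : (Z + 1) * (a + 2) = Z * (a + 1) + Z + (a + 2) := by ring
  have h5 : (n + 1) * (a + 1) = n * (a + 1) + (a + 1) := by ring
  have h6 : (Z + 1) * (a + 1) = Z * (a + 1) + (a + 1) := by ring
  omega

/-- The field model of `P ⋊ U`, with a prescribed element `s` sent to `1`. -/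
theorem exists_field_model [Fact p.Prime] (hq : 2 ≤ q) (P U : Subgroup G)
    (hP : Cfsg.IsElementaryAbelian p P) (hPcard : Nat.card P = p ^ q) (hUP : U ≤ normalizer (P : Set G))
    (hcyc : IsCyclic U) (hUcard : Nat.card U * (p - 1) = p ^ q - 1)
    (hfpf : ∀ u ∈ U, u ≠ 1 → ∀ x ∈ P, u * x = x * u → x = 1) {s : G} (hs : s ∈ P) (hs1 : s ≠ 1) :
    ∃ (F : Type) (_ : Field F) (_ : Fintype F) (f ψ : G → F),
      Fintype.card F = p ^ q ∧ Set.BijOn f (P : Set G) Set.univ ∧
      (∀ x ∈ P, ∀ x' ∈ P, f (x * x') = f x + f x') ∧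
      (∀ u ∈ U, ψ u ≠ 0 ∧ ∀ x ∈ P, f (u * x * u⁻¹) = ψ u * f x) ∧
      (∀ u ∈ U, ∀ u' ∈ U, ψ (u * u') = ψ u * ψ u') ∧ Set.InjOn ψ (U : Set G) ∧
      f s = 1 ∧ ∀ x ∈ P, f x ^ p = f x ↔ x ∈ zpowers s := by
  classical
  haveI := hP.1
  letI : CommGroup P := IsMulCommutative.instCommGroup
  have hpV : ∀ x : Additive P, p • x = 0 := fun x => Additive.toMul.injective (Subtype.ext (by
    rw [toMul_nsmul, toMul_zero, SubgroupClass.coe_pow, OneMemClass.coe_one]
    exact hP.2 _ x.toMul.2))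
  haveI : Module (ZMod p) (Additive P) := AddCommGroup.zmodModule hpV
  obtain ⟨⟨a, ha⟩, hgen⟩ := hcyc.exists_generator
  have hconj : ∀ {u : G}, u ∈ U → ∀ {x : G}, x ∈ P → u * x * u⁻¹ ∈ P := fun hu _ hx =>
    (mem_normalizer_iff.1 (hUP hu) _).1 hx
  have hgen' : ∀ u ∈ U, ∃ k : ℕ, a ^ k = u := fun u hu => by
    obtain ⟨k, hk⟩ := (mem_powers_iff_mem_zpowers.mpr (hgen ⟨u, hu⟩))
    exact ⟨k, congrArg Subtype.val hk⟩
  -- conjugation by the generator
  let φ : Module.End (ZMod p) (Additive P) :=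
    (AddMonoidHom.mk' (fun x : Additive P =>
      Additive.ofMul (⟨a * (x.toMul : G) * a⁻¹, hconj ha x.toMul.2⟩ : P)) fun x y =>
        Additive.toMul.injective (Subtype.ext (by simp [mul_assoc]))).toZModLinearMap p
  have hφ : ∀ (k : ℕ) (x : Additive P),
      (((φ ^ k) x).toMul : G) = a ^ k * (x.toMul : G) * (a ^ k)⁻¹ := by
    intro k
    induction k with
    | zero => intro x; simp
    | succ k ih =>
      intro x
      rw [pow_succ' φ, Module.End.mul_apply]
      show a * (((φ ^ k) x).toMul : G) * a⁻¹ = _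
      rw [ih]; group
  -- irreducibility
  have hirr : ∀ W : Submodule (ZMod p) (Additive P), (∀ x ∈ W, φ x ∈ W) → W ≠ ⊥ → W = ⊤ := by
    intro W hW hW0
    obtain ⟨w, hw, hw0⟩ := W.ne_bot_iff.1 hW0
    haveI : Finite (Additive P) := inferInstanceAs (Finite P)
    have hWk : ∀ k : ℕ, ∀ x ∈ W, (φ ^ k) x ∈ W := by
      intro k
      induction k with
      | zero => intro x hx; simpa using hx
      | succ k ih => intro x hx; rw [pow_succ', Module.End.mul_apply]; exact hW _ (ih x hx)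
    have hmem : ∀ u : U, Additive.ofMul (⟨(u : G) * (w.toMul : G) * (u : G)⁻¹,
        hconj u.2 w.toMul.2⟩ : P) ∈ W := by
      intro u
      obtain ⟨k, hk⟩ := hgen' u u.2
      convert hWk k w hw using 1
      exact Additive.toMul.injective (Subtype.ext (by rw [hφ, hk]; rfl))
    have hinj : Nat.card U ≤ Nat.card {x : W // x ≠ 0} := by
      refine Nat.card_le_card_of_injective (fun u => ⟨⟨_, hmem u⟩, fun h => hw0 ?_⟩) fun u v h => ?_
      · have h1 : ((u : G) * (w.toMul : G) * (u : G)⁻¹) = 1 :=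
          congrArg (fun x : W => ((x : Additive P).toMul : G)) h
        exact Additive.toMul.injective (Subtype.ext (conj_eq_one_iff.1 h1))
      · have h1 : (u : G) * (w.toMul : G) * (u : G)⁻¹ = (v : G) * (w.toMul : G) * (v : G)⁻¹ :=
          congrArg (fun x : {x : W // x ≠ 0} => (((x : W) : Additive P).toMul : G)) h
        by_contra hne
        refine hw0 (Additive.toMul.injective (Subtype.ext (hfpf ((v : G)⁻¹ * u)
          (mul_mem (inv_mem v.2) u.2) (fun e => hne (Subtype.ext (inv_mul_eq_one.1 e).symm)) _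
          w.toMul.2 ?_)))
        calc (v : G)⁻¹ * u * (w.toMul : G)
            = (v : G)⁻¹ * ((u : G) * (w.toMul : G) * (u : G)⁻¹) * u := by group
          _ = _ := by rw [h1]; group
    have hWcard : Nat.card {x : W // x ≠ 0} = Nat.card W - 1 := by
      haveI := Fintype.ofFinite W
      rw [Nat.card_eq_fintype_card, Nat.card_eq_fintype_card, Fintype.card_subtype_compl,
        Fintype.card_subtype_eq]
    have hV : Nat.card (Additive P) = p ^ q := hPcard
    have h1 : Nat.card W = p ^ Module.finrank (ZMod p) W := by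
      rw [Module.natCard_eq_pow_finrank (K := ZMod p), Nat.card_zmod]
    have h2 : Module.finrank (ZMod p) (Additive P) = q :=
      Nat.pow_right_injective (Fact.out : p.Prime).two_le
        (by simp only; rw [← hV, Module.natCard_eq_pow_finrank (K := ZMod p), Nat.card_zmod])
    have h3 : 1 < Nat.card W := by
      have h4 : 0 < Nat.card U := Nat.card_pos
      omega
    have h5 := card_eq_of_invariant hq _ h1 (h2 ▸ Submodule.finrank_le W) hUcard
      (hWcard ▸ hinj) h3
    refine Submodule.eq_top_of_finrank_eq ?_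
    rw [h2]
    exact Nat.pow_right_injective (Fact.out : p.Prime).two_le (h1.symm.trans h5)
  -- the kernel of evaluation at `s`
  set v : Additive P := Additive.ofMul ⟨s, hs⟩ with hv
  have hv0 : v ≠ 0 := fun h => hs1 (congrArg (fun x : Additive P => (x.toMul : G)) h)
  haveI : Finite (Additive P) := inferInstanceAs (Finite P)
  set g := minpoly (ZMod p) φ with hg
  have hint : IsIntegral (ZMod p) φ := Algebra.IsIntegral.isIntegral φ
  have hkill : ∀ (h : (ZMod p)[X]) (w : Additive P), w ≠ 0 → aeval φ h w = 0 → g ∣ h := by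
    intro h w hw hhw
    refine minpoly.dvd _ _ ?_
    have htop := hirr (LinearMap.ker (aeval φ h)) (fun x hx => by
      rw [LinearMap.mem_ker] at hx ⊢
      have e : aeval φ h * φ = φ * aeval φ h := by
        conv_lhs => arg 2; rw [← aeval_X (R := ZMod p) φ]
        conv_rhs => arg 1; rw [← aeval_X (R := ZMod p) φ]
        rw [← map_mul, ← map_mul, mul_comm]
      have := LinearMap.congr_fun e x
      simp only [Module.End.mul_apply, hx, map_zero] at this
      exact this) (fun hb => hw (by rw [← Submodule.mem_bot (ZMod p), ← hb]; exact hhw))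
    exact LinearMap.ker_eq_top.1 htop
  haveI : Nontrivial (Additive P) := ⟨⟨v, 0, hv0⟩⟩
  have hgirr : Irreducible g := by
    refine irreducible_iff.2 ⟨minpoly.not_isUnit _ _, fun b c hbc => ?_⟩
    have h0 : aeval φ b (aeval φ c v) = 0 := by
      rw [← Module.End.mul_apply, ← map_mul, ← hbc, hg, minpoly.aeval, LinearMap.zero_apply]
    have hg0 : g ≠ 0 := minpoly.ne_zero hint
    by_cases hc : aeval φ c v = 0
    · obtain ⟨d, hd⟩ := hkill c v hv0 hc
      left
      refine IsUnit.of_mul_eq_one d (mul_left_cancel₀ hg0 ?_)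
      rw [mul_one, ← mul_assoc, mul_comm g b, mul_assoc, ← hd, ← hbc]
    · obtain ⟨d, hd⟩ := hkill b _ hc h0
      right
      refine IsUnit.of_mul_eq_one d (mul_left_cancel₀ hg0 ?_)
      rw [mul_one, mul_comm c d, ← mul_assoc, ← hd, ← hbc]
  haveI := Fact.mk hgirr
  let Ψ : (ZMod p)[X] →ₗ[ZMod p] Additive P :=
    (LinearMap.applyₗ v).comp (aeval φ).toLinearMap
  have hΨ : ∀ h, Ψ h = aeval φ h v := fun h => rfl
  have hsurj : Function.Surjective Ψ := by
    rw [← LinearMap.range_eq_top]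
    refine hirr _ ?_ fun hb => hv0 ?_
    · rintro _ ⟨h, rfl⟩
      exact ⟨X * h, by rw [hΨ, hΨ, map_mul, aeval_X, Module.End.mul_apply]⟩
    · rw [← Submodule.mem_bot (ZMod p), ← hb]
      exact ⟨1, by simp [hΨ]⟩
  have hwd : ∀ h h', Ψ h = Ψ h' ↔ AdjoinRoot.mk g h = AdjoinRoot.mk g h' := by
    intro h h'
    rw [AdjoinRoot.mk_eq_mk]
    constructor
    · intro e
      exact hkill _ v hv0 (by rw [map_sub, LinearMap.sub_apply, ← hΨ, ← hΨ, e, sub_self])
    · rintro ⟨d, hd⟩
      rw [hΨ, hΨ, ← sub_eq_zero, ← LinearMap.sub_apply, ← map_sub, hd, map_mul, hg, minpoly.aeval,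
        zero_mul, LinearMap.zero_apply]
  let f : G → AdjoinRoot g := fun x => if hx : x ∈ P then
    AdjoinRoot.mk g (Classical.choose (hsurj (Additive.ofMul ⟨x, hx⟩))) else 0
  have hf : ∀ h, f ((Ψ h).toMul : G) = AdjoinRoot.mk g h := by
    intro h
    simp only [f, dif_pos (Ψ h).toMul.2]
    exact (hwd _ _).1 (Classical.choose_spec (hsurj _))
  have hfP : ∀ x ∈ P, ∃ h, ((Ψ h).toMul : G) = x := fun x hx => by
    obtain ⟨h, hh⟩ := hsurj (Additive.ofMul ⟨x, hx⟩)
    exact ⟨h, by rw [hh]; rfl⟩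
  have hbij : Set.BijOn f (P : Set G) Set.univ := by
    refine ⟨Set.mapsTo_univ _ _, fun x hx y hy hxy => ?_, fun z _ => ?_⟩
    · obtain ⟨h, rfl⟩ := hfP x hx
      obtain ⟨h', rfl⟩ := hfP y hy
      rw [hf, hf, ← hwd] at hxy
      rw [hxy]
    · obtain ⟨h, rfl⟩ := AdjoinRoot.mk_surjective z
      exact ⟨_, (Ψ h).toMul.2, hf h⟩
  have hadd : ∀ x ∈ P, ∀ x' ∈ P, f (x * x') = f x + f x' := by
    intro x hx x' hx'
    obtain ⟨h, rfl⟩ := hfP x hx
    obtain ⟨h', rfl⟩ := hfP x' hx'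
    rw [hf, hf, ← map_add, ← hf, map_add, toMul_add, Subgroup.coe_mul]
  have hfs : f s = 1 := by
    have : ((Ψ 1).toMul : G) = s := by rw [hΨ, map_one, Module.End.one_apply]; rfl
    rw [← this, hf, map_one]
  have hact : ∀ k : ℕ, ∀ x ∈ P, f (a ^ k * x * (a ^ k)⁻¹) = AdjoinRoot.root g ^ k * f x := by
    intro k x hx
    obtain ⟨h, rfl⟩ := hfP x hx
    rw [← hφ, hf, ← AdjoinRoot.mk_X, ← map_pow, ← map_mul, ← hf, hΨ, hΨ, map_mul, map_pow, aeval_X,
      Module.End.mul_apply]
  have hψ : ∀ u ∈ U, ∀ x ∈ P, f (u * x * u⁻¹) = f (u * s * u⁻¹) * f x := by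
    intro u hu x hx
    obtain ⟨k, rfl⟩ := hgen' u hu
    rw [hact k x hx, hact k s hs, hfs, mul_one]
  have hne : ∀ u ∈ U, f (u * s * u⁻¹) ≠ 0 := by
    intro u hu h0
    have h1 : f 1 = 0 := by simpa using hadd 1 P.one_mem 1 P.one_mem
    exact hs1 (conj_eq_one_iff.1 (hbij.injOn (hconj hu hs) P.one_mem (h0.trans h1.symm)))
  haveI : Finite (AdjoinRoot g) := Finite.of_surjective (fun x : P => f x) fun z => by
    obtain ⟨x, hx, rfl⟩ := hbij.surjOn (Set.mem_univ z)
    exact ⟨⟨x, hx⟩, rfl⟩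
  haveI : CharP (AdjoinRoot g) p :=
    charP_of_injective_algebraMap (AdjoinRoot.of g).injective p
  refine ⟨AdjoinRoot g, inferInstance, Fintype.ofFinite _, f, fun u => f (u * s * u⁻¹), ?_, hbij,
    hadd, fun u hu => ⟨hne u hu, hψ u hu⟩, ?_, ?_, hfs, ?_⟩
  · rw [← hPcard, Fintype.card_eq_nat_card]
    exact (Nat.card_congr ((Equiv.Set.univ _).symm.trans hbij.equiv.symm))
  · intro u hu u' hu'
    show f (u * u' * s * (u * u')⁻¹) = f (u * s * u⁻¹) * f (u' * s * u'⁻¹)
    rw [show u * u' * s * (u * u')⁻¹ = u * (u' * s * u'⁻¹) * u⁻¹ by group]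
    exact hψ u hu _ (hconj hu' hs)
  · intro u hu u' hu' h
    have h1 : u * s * u⁻¹ = u' * s * u'⁻¹ := hbij.injOn (hconj hu hs) (hconj hu' hs) h
    by_contra hne'
    refine hs1 (hfpf (u'⁻¹ * u) (mul_mem (inv_mem hu') hu)
      (fun e => hne' (inv_mul_eq_one.1 e).symm) s hs ?_)
    calc u'⁻¹ * u * s = u'⁻¹ * (u * s * u⁻¹) * u := by group
      _ = _ := by rw [h1]; group
  · have hpow : ∀ k : ℕ, f (s ^ k) = k := by
      intro k
      induction k with
      | zero => simpa using hadd 1 P.one_mem 1 P.one_mem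
      | succ k ih => rw [pow_succ, hadd _ (pow_mem hs k) _ hs, ih, hfs, Nat.cast_succ]
    intro x hx
    constructor
    · intro h
      obtain ⟨k, hk⟩ := CfsgLib.AppendixC.exists_natCast_of_pow_eq h
      rw [← hbij.injOn (pow_mem hs k) hx (by rw [hpow, hk])]
      exact ⟨k, by simp⟩
    · intro hmem
      obtain ⟨k, rfl⟩ := mem_powers_iff_mem_zpowers.mpr hmem
      simp only [hpow, ← frobenius_def, map_natCast]

end CfsgLib.FT.PF14
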