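import Cfsg.Agent.Lib.FT.PF14.Pair
import Cfsg.Agent.Lib.FT.PF14.FieldModel
import Cfsg.Agent.Lib.FT.Interface
import Cfsg.Agent.Lib.FT.Stmts
import Cfsg.Agent.Lib.OddOrder.CyclicSubgroups
import Cfsg.Agent.Lib.OddOrder.FittingHall
import Cfsg.Agent.S1472

/-!
The assembly of the odd order theorem: Steps A, B, C of `tools/FT_short_route.md` as hypotheses,
Step D (Bender–Glauberman Appendix C) and the reduction to `NoMinSimpleOdd`.
-/

set_option autoImplicit false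

universe u

open Cfsg Subgroup

namespace CfsgLib.FT.PF14

/-- Step A: the partner of a maximal subgroup of Type II is of Type II. -/
def StepA : Prop :=
  ∀ {G : Type u} [Group G] [Finite G] (_ : IsMinSimpleOddOrder G)
    (S T W₁ W₂ U V : Subgroup G) (_ : IsCoatom S) (_ : IsCoatom T)
    (_ : IsTypePWith S W₁ U W₂) (_ : IsTypePWith T W₂ V W₁) (_ : S ⊓ T = W₁ ⊔ W₂)
    (_ : IsOfTypeII S)
    (_ : IsOfTypeII T ∨ IsOfTypeIII T ∨ IsOfTypeIV T ∨ IsOfTypeV T),
    IsOfTypeII T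

/-- Steps B and C: the field data of the pair. -/
def StepBC : Prop :=
  ∀ {G : Type u} [Group G] [Finite G] (_ : IsMinSimpleOddOrder G)
    (S T W₁ W₂ U V : Subgroup G) (_ : IsCoatom S) (_ : IsCoatom T)
    (_ : IsTypePWith S W₁ U W₂) (_ : IsTypePWith T W₂ V W₁) (_ : S ⊓ T = W₁ ⊔ W₂)
    (_ : IsOfTypeII S) (_ : IsOfTypeII T) (_ : Nat.card W₁ < Nat.card W₂),
    IsElementaryAbelian (Nat.card W₂) (fittingHallOf S) ∧
      Nat.card (fittingHallOf S) = Nat.card W₂ ^ Nat.card W₁ ∧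
      IsCyclic U ∧ Nat.card U * (Nat.card W₂ - 1) = Nat.card W₂ ^ Nat.card W₁ - 1 ∧
      (∀ u ∈ U, u ≠ 1 → ∀ x ∈ fittingHallOf S, u * x = x * u → x = 1) ∧
      Nat.Coprime ((Nat.card W₂ ^ Nat.card W₁ - 1) / (Nat.card W₂ - 1)) (Nat.card W₂ - 1) ∧
      IsMulCommutative (fittingHallOf T) ∧
      ∃ y ∈ fittingHallOf T, W₂.map (MulAut.conj y).toMonoidHom ≤ normalizer (U : Set G)

/-- The data of Step D are contradictory. -/
theorem false_of_pair {G : Type u} [Group G] [Finite G] (hA : StepA.{u}) (hBC : StepBC.{u})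
    (hG : IsMinSimpleOddOrder G) {S T W₁ W₂ U V : Subgroup G} (hS : IsCoatom S) (hT : IsCoatom T)
    (hSP : IsTypePWith S W₁ U W₂) (hTP : IsTypePWith T W₂ V W₁) (hST : S ⊓ T = W₁ ⊔ W₂)
    (hSII : IsOfTypeII S) (hTII : IsOfTypeII T) (hlt : Nat.card W₁ < Nat.card W₂) : False := by
  obtain ⟨helem, hcard, hcyc, hU, hfpf, hcop, hQ, y, hy, hyU⟩ :=
    hBC hG S T W₁ W₂ U V hS hT hSP hTP hST hSII hTII hlt
  set q := Nat.card W₁
  set p := Nat.card W₂
  have hq : q.Prime := card_W₁_prime hG hS hSP hSII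
  have hp : p.Prime := card_W₁_prime hG hT hTP hTII
  haveI := Fact.mk hp
  haveI := Fact.mk hq
  obtain ⟨⟨s, hs⟩, hs1⟩ := W₂.ne_bot_iff_exists_ne_one.1 hTP.W₁_ne
  have hs1' : s ≠ 1 := fun e => hs1 (Subtype.ext e)
  have hUN : U ≤ normalizer (fittingHallOf S : Set G) :=
    (hSP.U_compl.2.1.trans (Subgroup.commutator_le_self S)).trans (CfsgLib.OddOrder.le_normalizer_fittingHallOf S)
  have hsF : s ∈ fittingHallOf S := (hSP.W₂_le hs).1
  obtain ⟨F, hF1, hF2, f, ψ, hF, hbij, hadd, hact, hmul, hinj, -, hfix⟩ :=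
    exists_field_model hq.two_le (fittingHallOf S) U helem hcard hUN hcyc hU hfpf hsF hs1'
  have hW : ∀ x ∈ fittingHallOf S, f x ^ p = f x → x ∈ W₂ := fun x hx h =>
    zpowers_le.2 hs ((hfix x hx).1 h)
  have hQp : (Nat.card (fittingHallOf T)).Coprime p := by
    have h1 : Nat.card (fittingHallOf T) ∣ Nat.card ↥⁅T, T⁆ := card_dvd_of_le hTP.U_compl.1
    have h2 := CfsgLib.FT.BG15.card_mul_card_of_isComplIn hTP.W₁_compl
    have h3 : W₂.relIndex T = Nat.card ↥⁅T, T⁆ :=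
      Nat.eq_of_mul_eq_mul_right Nat.card_pos
        ((CfsgLib.FT.BG15.relIndex_mul_card_of_le hTP.W₁_compl.2.1).trans h2.symm)
    exact (Nat.Coprime.coprime_dvd_right h1 (h3 ▸ hTP.W₁_hall)).symm
  exact absurd (Cfsg.Agent.S1472.result p q hcop F hF (fittingHallOf S) U (fittingHallOf T) f ψ hbij
    hadd hUN hact hmul hinj hU hQ hQp
    (fun x hx h => CfsgLib.OddOrder.le_normalizer_fittingHallOf T (hTP.W₁_compl.2.1 (hW x hx h))) y hy
    (fun x hx h => hyU ⟨x, hW x hx h, rfl⟩)) (not_le.mpr hlt)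

/-- Steps A, B, C and the non-existence of an all-Type-I configuration give the odd order theorem. -/
theorem noMinSimpleOdd_of_steps (h1541 : StmtS1541.{u}) (hA : StepA.{u}) (hBC : StepBC.{u}) :
    NoMinSimpleOdd.{u} := by
  intro G _ _ hG
  obtain ⟨S, T, W₁, W₂, U, V, hS, hT, hSP, hTP, hST, hSII, hT25⟩ :=
    exists_typeP_pair hG (h1541 hG)
  have hTII := hA hG S T W₁ W₂ U V hS hT hSP hTP hST hSII hT25
  have hne : Nat.card W₁ ≠ Nat.card W₂ := by
    intro e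
    obtain ⟨-, -, hinf, -, hcyc, -⟩ := hSP.selfNormalizing
    refine hSP.W₁_ne (le_bot_iff.1 (le_trans (le_inf le_rfl ?_) hinf.le))
    exact (haveI := hcyc; CfsgLib.OddOrder.eq_of_card_eq_of_isCyclic (C := W₁ ⊔ W₂) le_sup_left le_sup_right e).le
  rcases hne.lt_or_gt with h | h
  · exact false_of_pair hA hBC hG hS hT hSP hTP hST hSII hTII h
  · exact false_of_pair hA hBC hG hT hS hTP hSP (by rw [inf_comm, hST, sup_comm]) hTII hSII h

/-- The odd order theorem from Steps A, B, C and S1541. -/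
theorem oddOrderThm_of_steps (h1541 : StmtS1541.{u}) (hA : StepA.{u}) (hBC : StepBC.{u}) :
    OddOrderThm.{u} :=
  oddOrderThm_of_noMinSimpleOdd (noMinSimpleOdd_of_steps h1541 hA hBC)

end CfsgLib.FT.PF14
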