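import Cfsg.Agent.Lib.FT.BG16.Types
import Cfsg.Agent.Lib.FT.BG15.Discharge
import Cfsg.Agent.Lib.FT.BG13.Discharge
import Cfsg.Agent.Lib.FT.BG13.Partners

/-!
Péterfalvi section 14: the pair of maximal subgroups of type P, with their data.
-/

set_option autoImplicit false
set_option linter.style.haveILetI false

universe u

open Cfsg CfsgLib.OddOrder CfsgLib.Techniques Subgroup
open CfsgLib.FT.BG15
open scoped commutatorElement

namespace CfsgLib.FT.PF14

variable {G : Type u} [Group G] [Finite G]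

/-- A maximal subgroup with a decomposition having `K ≠ ⊥` is of one of the Types II to V. -/
theorem type25_of_K_ne (hG : IsMinSimpleOddOrder G) {M K U : Subgroup G} (hM : IsCoatom M)
    (hD : IsSigmaDecomposition M K U) (hK : K ≠ ⊥) :
    IsOfTypeII M ∨ IsOfTypeIII M ∨ IsOfTypeIV M ∨ IsOfTypeV M := by
  by_cases hU : U = ⊥
  · by_cases hH : fittingHallOf M = sigmaCore M
    · exact Or.inr (Or.inr (Or.inr
        ((BG16.isOfTypeV_iff BG15.upstream hG hM hD).2 ⟨hK, hU, hH⟩)))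
    · rcases (BG16.isOfTypeIII_or_IV_iff BG15.upstream hG hM hD).2 ⟨hK, hU, hH⟩ with h | h
      · exact Or.inr (Or.inl h)
      · exact Or.inr (Or.inr (Or.inl h))
  · exact Or.inl ((BG16.isOfTypeII_iff BG15.upstream hG hM hD).2 ⟨hK, hU⟩)

theorem typeII_of_not_allKappaSigma (hG : IsMinSimpleOddOrder G) {M K U : Subgroup G}
    (hM : IsCoatom M) (hD : IsSigmaDecomposition M K U) (hK : K ≠ ⊥)
    (h : ¬ BG13.AllKappaSigma M) : IsOfTypeII M := by
  refine (BG16.isOfTypeII_iff BG15.upstream hG hM hD).2 ⟨hK, fun hU => h fun t ht hd => ?_⟩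
  rw [← card_mul_card_of_isComplIn hD.compl, hU, Subgroup.card_bot, one_mul,
    card_K_sup_sigmaCore BG15.upstream hG hM hD.hall] at hd
  rcases (Nat.Prime.dvd_mul ht).1 hd with h1 | h1
  · exact Or.inr (hD.hall.2.1 t ht h1)
  · exact Or.inl ((sigmaCore_hallOf BG15.upstream hG hM).2.1 t ht h1)

/-- If some maximal subgroup is not of Type I, there is a pair of type P, the first of Type II. -/
theorem exists_typeP_pair (hG : IsMinSimpleOddOrder G)
    (h : ∃ M : Subgroup G, IsCoatom M ∧ ¬ FT.IsOfTypeI M) :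
    ∃ S T W₁ W₂ U V : Subgroup G, IsCoatom S ∧ IsCoatom T ∧ IsTypePWith S W₁ U W₂ ∧
      IsTypePWith T W₂ V W₁ ∧ S ⊓ T = W₁ ⊔ W₂ ∧ IsOfTypeII S ∧
      (IsOfTypeII T ∨ IsOfTypeIII T ∨ IsOfTypeIV T ∨ IsOfTypeV T) := by
  obtain ⟨M, hM, hI⟩ := h
  obtain ⟨K, U, hD⟩ := exists_decomposition BG15.upstream hG hM
  have hK : K ≠ ⊥ := fun e => by
    by_cases hU : U = ⊥
    · exact K_ne_bot_of_U_bot BG15.upstream hG hM hD hU e
    · exact hI ((BG16.isOfTypeI_iff BG15.upstream hG hM hD).2 ⟨e, hU⟩)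
  obtain ⟨L, P⟩ := BG13.exists_partners BG13.upstream hG hM hD.hall hK
  have hK' : BG13.kstar M K ≠ ⊥ := fun e => P.pair.left_ne (P.sideM.trans e)
  obtain ⟨U', hD'⟩ :=
    exists_decomposition_of_hall BG15.upstream hG P.maxL P.cyclicKs P.hallL
  obtain ⟨U₁, hP₁⟩ := BG16.exists_isTypePWith BG15.upstream hG hM hD hK
  obtain ⟨U₂, hP₂⟩ := BG16.exists_isTypePWith BG15.upstream hG P.maxL hD' hK'
  have hks : cstar L (BG13.kstar M K) = K := P.kstarL
  rw [hks] at hP₂
  rcases P.someP2 with h2 | h2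
  · exact ⟨M, L, K, _, U₁, U₂, hM, P.maxL, hP₁, hP₂, P.inter,
      typeII_of_not_allKappaSigma hG hM hD hK h2, type25_of_K_ne hG P.maxL hD' hK'⟩
  · exact ⟨L, M, _, K, U₂, U₁, P.maxL, hM, hP₂, hP₁, by rw [inf_comm, P.inter, sup_comm],
      typeII_of_not_allKappaSigma hG P.maxL hD' hK' h2, type25_of_K_ne hG hM hD hK⟩

/-- The order of `W₁` is a prime for any data of type P of a subgroup of Type II. -/
theorem card_W₁_prime (hG : IsMinSimpleOddOrder G) {S W₁ U W₂ : Subgroup G} (hS : IsCoatom S)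
    (hSP : IsTypePWith S W₁ U W₂) (hII : IsOfTypeII S) : (Nat.card W₁).Prime := by
  obtain ⟨K, U₀, hD⟩ := exists_decomposition BG15.upstream hG hS
  obtain ⟨A, B, C, hP, -, hp, -⟩ := hII
  have hK := BG16.K_ne_bot_of_typeP BG15.upstream hG hS hD hP
  obtain ⟨m, -, e, -⟩ := BG16.typeP_data_conj BG15.upstream hG hS hD hK hSP
  obtain ⟨n, -, e', -⟩ := BG16.typeP_data_conj BG15.upstream hG hS hD hK hP
  rw [e', card_cj] at hp
  rwa [e, card_cj]

end CfsgLib.FT.PF14
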