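import Cfsg.Agent.Lib.FT.PF14.Endgame
import Cfsg.Agent.Lib.FT.LocalDischarge
import Cfsg.Agent.Lib.FT.TypeOne.Wiring

/-!
The odd order theorem from Steps A, B and C alone.
-/

set_option autoImplicit false

universe u

namespace CfsgLib.FT.PF14

/-- What is left of the odd order theorem: Steps A, B and C. -/
theorem oddOrderThm_of_AB (hA : StepA.{u}) (hBC : StepBC.{u}) : OddOrderThm.{u} :=
  oddOrderThm_of_steps (stmtS1541_of_local TypeOne.localFacts12) hA hBC

end CfsgLib.FT.PF14
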